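import Mathlib.RingTheory.Etale.Locus
import Mathlib.RingTheory.MvPolynomial.Localization
import Mathlib.RingTheory.Localization.BaseChange
import Mathlib.RingTheory.Unramified.Finite
import Mathlib.RingTheory.Localization.LocalizationLocalization
import Mathlib.RingTheory.Localization.Ideal

/-!
# Etale models of etale algebras over a localization
-/

universe u

open TensorProduct

set_option backward.isDefEq.respectTransparency false

namespace Groth.Agent.FlatMonoRep

/-- `f` is a localisation at `M`, apart from the condition on units -/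
def IsMLoc {A X Y : Type u} [CommRing A] (M : Submonoid A) [CommRing X] [CommRing Y] [Algebra A X] [Algebra A Y]
    (f : X →ₐ[A] Y) : Prop :=
  (∀ y, ∃ t ∈ M, ∃ x, t • y = f x) ∧ ∀ x, f x = 0 → ∃ t ∈ M, t • x = 0

variable {A : Type u} [CommRing A] {M : Submonoid A}
variable {X Y : Type u} [CommRing X] [CommRing Y] [Algebra A X] [Algebra A Y]

lemma IsMLoc.isLocalizedModule {f : X →ₐ[A] Y} (h : IsMLoc M f) (hu : ∀ t ∈ M, IsUnit (algebraMap A Y t)) :
    IsLocalizedModule M f.toLinearMap where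
  map_units t := by
    obtain ⟨u, hu⟩ := hu t t.2
    refine (Module.End.isUnit_iff _).2 ⟨fun a b hab => u.isUnit.mul_left_cancel ?_, fun y => ⟨↑u⁻¹ * y, ?_⟩⟩
    · simpa [Algebra.smul_def, ← hu] using hab
    · simp [Algebra.smul_def, ← hu]
  surj y := by
    obtain ⟨t, ht, x, hx⟩ := h.1 y
    exact ⟨(x, ⟨t, ht⟩), hx⟩
  exists_of_eq {x₁ x₂} e := by
    obtain ⟨t, ht, hx⟩ := h.2 (x₁ - x₂) (by rw [map_sub]; exact sub_eq_zero.2 e)
    exact ⟨⟨t, ht⟩, sub_eq_zero.1 (by rw [Submonoid.smul_def, Submonoid.smul_def, ← smul_sub]; exact hx)⟩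

lemma IsMLoc.isLocalization {f : X →ₐ[A] Y} (h : IsMLoc M f) (hu : ∀ t ∈ M, IsUnit (algebraMap A Y t)) :
    @IsLocalization X _ (Algebra.algebraMapSubmonoid X M) Y _ f.toRingHom.toAlgebra := by
  let _ : Algebra X Y := f.toRingHom.toAlgebra
  refine (isLocalization_iff _ _).2 ⟨?_, fun y => ?_, fun {x₁ x₂} e => ?_⟩
  · rintro ⟨_, t, ht, rfl⟩
    show IsUnit (f (algebraMap A X t))
    rw [f.commutes]
    exact hu t ht
  · obtain ⟨t, ht, x, hx⟩ := h.1 y
    refine ⟨(x, ⟨_, t, ht, rfl⟩), ?_⟩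
    show y * f (algebraMap A X t) = f x
    rw [f.commutes, ← hx, Algebra.smul_def, mul_comm]
  · obtain ⟨t, ht, hx⟩ := h.2 (x₁ - x₂) (by rw [map_sub]; exact sub_eq_zero.2 e)
    refine ⟨⟨_, t, ht, rfl⟩, ?_⟩
    show algebraMap A X t * x₁ = algebraMap A X t * x₂
    rw [← sub_eq_zero, ← mul_sub, ← Algebra.smul_def]
    exact hx

theorem exists_etale_model_aux (M : Submonoid A) (R : Type u) [CommRing R] [Algebra A R] [IsLocalization M R]
    (C : Type u) [CommRing C] [Algebra R C] [Algebra A C] [IsScalarTower A R C] [Algebra.Etale R C]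
    {A₂ : Type u} [CommRing A₂] [Algebra A A₂] [Algebra.FinitePresentation A A₂] {ρ : A₂ →ₐ[A] C}
    (hρ : IsMLoc M ρ) (hu : ∀ t ∈ M, IsUnit (algebraMap A C t)) :
    ∃ (A' : Type u) (_ : CommRing A') (_ : Algebra A A') (_ : Algebra.Etale A A') (ρ : A' →ₐ[A] C),
      IsMLoc M ρ := by
  let _ : Algebra A₂ C := ρ.toRingHom.toAlgebra
  have : IsScalarTower A A₂ C := .of_algebraMap_eq fun r => (ρ.commutes r).symm
  let M₂ := Algebra.algebraMapSubmonoid A₂ M
  have : IsLocalization M₂ C := hρ.isLocalization hu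
  have : Algebra.FormallyEtale A R := Algebra.FormallyEtale.of_isLocalization M
  have : Algebra.FormallyEtale A C := Algebra.FormallyEtale.comp A R C
  obtain ⟨I, hI⟩ := (PrimeSpectrum.isClosed_iff_zeroLocus_ideal _).1
    (Algebra.isOpen_etaleLocus (R := A) (A := A₂)).isClosed_compl
  obtain ⟨t, ht, htI⟩ : ∃ t ∈ M, algebraMap A A₂ t ∈ I := by
    by_contra h
    have hd : Disjoint (I : Set A₂) M₂ := by
      rw [Set.disjoint_left]
      rintro _ hx ⟨t, ht, rfl⟩
      exact h ⟨t, ht, hx⟩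
    obtain ⟨Q, hQ, hIQ, hQd⟩ := Ideal.exists_le_prime_disjoint I M₂ hd
    have hle : M₂ ≤ Q.primeCompl := fun x hx hxQ => Set.disjoint_left.1 hQd hxQ hx
    let Q' := Localization.AtPrime Q
    let φ : C →+* Q' := IsLocalization.lift (M := M₂) (g := algebraMap A₂ Q') fun y =>
      IsLocalization.map_units Q' ⟨y.1, hle y.2⟩
    let _ : Algebra C Q' := φ.toAlgebra
    have : IsScalarTower A₂ C Q' := .of_algebraMap_eq fun x => (IsLocalization.lift_eq _ x).symm
    have : IsScalarTower A C Q' := .of_algebraMap_eq fun x => by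
      rw [IsScalarTower.algebraMap_apply A A₂ C, ← IsScalarTower.algebraMap_apply A₂ C Q',
        ← IsScalarTower.algebraMap_apply]
    have : IsLocalization (Q.primeCompl.map (algebraMap A₂ C)) Q' :=
      IsLocalization.isLocalization_of_submonoid_le C Q' M₂ Q.primeCompl hle
    have : Algebra.FormallyEtale C Q' := Algebra.FormallyEtale.of_isLocalization (Q.primeCompl.map (algebraMap A₂ C))
    have hQe : Algebra.IsEtaleAt A Q := Algebra.FormallyEtale.comp A C Q'
    exact (hI.symm ▸ hIQ : (⟨Q, hQ⟩ : PrimeSpectrum A₂) ∈ (Algebra.etaleLocus A A₂)ᶜ) hQe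
  let A' := Localization.Away (algebraMap A A₂ t)
  have : Algebra.Etale A A' := by
    refine Algebra.basicOpen_subset_etaleLocus_iff_etale.1 fun Q hQ => ?_
    by_contra h
    have h' : Q ∈ (Algebra.etaleLocus A A₂)ᶜ := h
    rw [hI] at h'
    exact hQ (h' htI)
  have ht' : IsUnit (ρ (algebraMap A A₂ t)) := by rw [ρ.commutes]; exact hu t ht
  let ρ' : A' →ₐ[A] C := IsLocalization.Away.liftAlgHom (algebraMap A A₂ t) (f := ρ) ht'
  have hρ' : ∀ x, ρ' (algebraMap A₂ A' x) = ρ x := fun x => IsLocalization.Away.lift_eq _ ht' x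
  refine ⟨A', inferInstance, inferInstance, ‹_›, ρ', fun y => ?_, fun x hx => ?_⟩
  · obtain ⟨s, hs, x, hx⟩ := hρ.1 y
    exact ⟨s, hs, algebraMap A₂ A' x, by rw [hx, hρ']⟩
  · obtain ⟨⟨z, m⟩, hz⟩ := IsLocalization.surj (Submonoid.powers (algebraMap A A₂ t)) x
    obtain ⟨s, hs, hsz⟩ := hρ.2 z (by rw [← hρ', ← hz, map_mul, hx, zero_mul])
    refine ⟨s, hs, (IsLocalization.map_units A' m).mul_left_eq_zero.1 ?_⟩
    rw [smul_mul_assoc, hz, Algebra.smul_def, IsScalarTower.algebraMap_apply A A₂ A', ← map_mul,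
      ← Algebra.smul_def, hsz, map_zero]

/-- an etale algebra over a localization comes from an etale algebra -/
theorem exists_etale_model (M : Submonoid A) (R : Type u) [CommRing R] [Algebra A R] [IsLocalization M R]
    (C : Type u) [CommRing C] [Algebra R C] [Algebra A C] [IsScalarTower A R C] [Algebra.Etale R C] :
    ∃ (A' : Type u) (_ : CommRing A') (_ : Algebra A A') (_ : Algebra.Etale A A') (ρ : A' →ₐ[A] C),
      IsMLoc M ρ := by
  classical
  obtain ⟨n, f, hf, s, hs⟩ := (inferInstance : Algebra.FinitePresentation R C).out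
  have hu : ∀ t ∈ M, IsUnit (algebraMap A C t) := fun t ht => by
    rw [IsScalarTower.algebraMap_apply A R C]
    exact (IsLocalization.map_units R ⟨t, ht⟩).map _
  let _ : Algebra (MvPolynomial (Fin n) A) (MvPolynomial (Fin n) R) := MvPolynomial.algebraMvPolynomial
  let N : Submonoid (MvPolynomial (Fin n) A) := M.map MvPolynomial.C
  have hN : IsLocalization N (MvPolynomial (Fin n) R) := inferInstance
  choose w hw using fun r : MvPolynomial (Fin n) R => IsLocalization.surj N r
  let J : Ideal (MvPolynomial (Fin n) A) := Ideal.span (s.image fun r => (w r).1 : Finset _)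
  have : Algebra.FinitePresentation A (MvPolynomial (Fin n) A ⧸ J) :=
    Algebra.FinitePresentation.quotient ⟨_, rfl⟩
  let g : MvPolynomial (Fin n) A →ₐ[A] C := MvPolynomial.aeval fun i => f (MvPolynomial.X i)
  have hg : ∀ x, g x = f (algebraMap _ (MvPolynomial (Fin n) R) x) := fun x => by
    conv_rhs => rw [MvPolynomial.algebraMap_def, MvPolynomial.aeval_unique f, MvPolynomial.aeval_map_algebraMap]
    rfl
  have hJ : J ≤ RingHom.ker g := by
    refine Ideal.span_le.2 fun x hx => ?_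
    obtain ⟨r, hr, rfl⟩ := Finset.mem_image.1 (Finset.mem_coe.1 hx)
    show g _ = 0
    rw [hg, ← hw, map_mul, show f r = 0 from hs.le (Ideal.subset_span hr), zero_mul]
  let ρ : (MvPolynomial (Fin n) A ⧸ J) →ₐ[A] C := Ideal.Quotient.liftₐ J g hJ
  have hρmk : ∀ x, ρ (Ideal.Quotient.mk J x) = g x := fun _ => rfl
  have hρ : IsMLoc M ρ := by
    refine ⟨fun y => ?_, fun x hx => ?_⟩
    · obtain ⟨P, rfl⟩ := hf y
      obtain ⟨⟨P', ⟨_, t, ht, rfl⟩⟩, hP⟩ := IsLocalization.surj N P
      refine ⟨t, ht, Ideal.Quotient.mk J P', ?_⟩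
      rw [hρmk, hg, ← hP, map_mul, mul_comm, Algebra.smul_def]
      congr 1
      show _ = f (algebraMap _ (MvPolynomial (Fin n) R) (MvPolynomial.C t))
      rw [← hg, MvPolynomial.algHom_C]
    · obtain ⟨x, rfl⟩ := Ideal.Quotient.mk_surjective x
      rw [hρmk, hg] at hx
      have hmem : algebraMap _ (MvPolynomial (Fin n) R) x ∈ J.map (algebraMap _ (MvPolynomial (Fin n) R)) := by
        refine (?_ : RingHom.ker f.toRingHom ≤ _) hx
        rw [← hs]
        refine Ideal.span_le.2 fun r hr => ?_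
        refine (Ideal.mul_unit_mem_iff_mem _ (IsLocalization.map_units _ (w r).2)).1 ?_
        rw [hw]
        exact Ideal.mem_map_of_mem _ (Ideal.subset_span (Finset.mem_coe.2 (Finset.mem_image_of_mem _ hr)))
      obtain ⟨_, ⟨t, ht, rfl⟩, hm⟩ := (IsLocalization.algebraMap_mem_map_algebraMap_iff N _ J x).1 hmem
      refine ⟨t, ht, ?_⟩
      rw [Algebra.smul_def]
      exact Ideal.Quotient.eq_zero_iff_mem.2 hm
  exact exists_etale_model_aux M R C hρ hu

/-- tensor products of localisations -/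
theorem IsMLoc.map {X' Y' : Type u} [CommRing X'] [CommRing Y'] [Algebra A X'] [Algebra A Y'] {f : X →ₐ[A] Y}
    {g : X' →ₐ[A] Y'} (hf : IsMLoc M f) (hg : IsMLoc M g) (hu : ∀ t ∈ M, IsUnit (algebraMap A Y t))
    (hu' : ∀ t ∈ M, IsUnit (algebraMap A Y' t)) : IsMLoc M (Algebra.TensorProduct.map f g) := by
  refine ⟨fun y => ?_, fun x hx => ?_⟩
  · induction y using TensorProduct.induction_on with
    | zero => exact ⟨1, M.one_mem, 0, by simp⟩
    | tmul a b =>
      obtain ⟨t, ht, x, hx⟩ := hf.1 a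
      obtain ⟨t', ht', x', hx'⟩ := hg.1 b
      refine ⟨t * t', M.mul_mem ht ht', x ⊗ₜ x', ?_⟩
      rw [Algebra.TensorProduct.map_tmul, ← hx, ← hx', TensorProduct.smul_tmul_smul]
    | add a b ha hb =>
      obtain ⟨t, ht, x, hx⟩ := ha
      obtain ⟨t', ht', x', hx'⟩ := hb
      refine ⟨t * t', M.mul_mem ht ht', t' • x + t • x', ?_⟩
      rw [map_add, map_smul, map_smul, ← hx, ← hx', smul_add, smul_smul, smul_smul, mul_comm t]
  · have := hf.isLocalizedModule hu
    have := hg.isLocalizedModule hu'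
    let F : X ⊗[A] X' →ₗ[A] Y ⊗[A] X' := AlgebraTensorModule.rTensor A X' f.toLinearMap
    let G : X' ⊗[A] Y →ₗ[A] Y' ⊗[A] Y := AlgebraTensorModule.rTensor A Y g.toLinearMap
    have e : ∀ z, TensorProduct.comm A Y Y' (Algebra.TensorProduct.map f g z) =
        G (TensorProduct.comm A Y X' (F z)) := fun z => by
      induction z using TensorProduct.induction_on with
      | zero => simp
      | tmul a b => simp [F, G]
      | add a b ha hb => simp only [map_add, ha, hb]
    obtain ⟨c, hc⟩ := (IsLocalizedModule.eq_zero_iff M G).1 (by rw [← e, hx, map_zero])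
    have h1 : c • F x = 0 := (TensorProduct.comm A Y X').injective (by
      rw [Submonoid.smul_def, map_smul, map_zero]; exact hc)
    obtain ⟨d, hd⟩ := (IsLocalizedModule.eq_zero_iff M F).1
      (show F ((c : A) • x) = 0 by rw [map_smul]; exact h1)
    exact ⟨d * c, M.mul_mem d.2 c.2, by rw [mul_smul]; exact hd⟩

/-- the piece of the diagonal -/
theorem exists_piece {A' B C : Type u} [CommRing A'] [CommRing B] [CommRing C] [Algebra A A'] [Algebra A B]
    [Algebra A C] [Algebra.FormallyUnramified A C] [Algebra.EssFiniteType A C]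
    {ρ : A' →ₐ[A] C} {β : B →ₐ[A] C} (hρ : IsMLoc M ρ) (hβ : IsMLoc M β)
    (hu : ∀ t ∈ M, IsUnit (algebraMap A C t)) :
    ∃ (e : A' ⊗[A] B) (φ : Localization.Away e →ₐ[A] C),
      (∀ x, φ (algebraMap _ _ x) = Algebra.TensorProduct.lift ρ β (fun _ _ => mul_comm _ _) x) ∧
      ∀ a : Localization.Away e, ∃ t ∈ M, ∃ x : A', t • a = algebraMap A' _ x := by
  let θ := Algebra.TensorProduct.map ρ β
  have hθ : IsMLoc M θ := hρ.map hβ hu hu
  let γ := Algebra.TensorProduct.lift ρ β (fun _ _ => mul_comm _ _)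
  let μ : C ⊗[A] C →ₐ[A] C := Algebra.TensorProduct.lmul' A
  have hμθ : ∀ z, μ (θ z) = γ z := fun z => by
    refine DFunLike.congr_fun (?_ : μ.comp θ = γ) z
    refine Algebra.TensorProduct.ext (AlgHom.ext fun a => ?_) (AlgHom.ext fun b => ?_) <;> simp [μ, θ, γ]
  let E₀ := Algebra.FormallyUnramified.elem A C
  have hE : ∀ w : C ⊗[A] C, w * E₀ = (μ w ⊗ₜ 1) * E₀ := fun w => by
    induction w using TensorProduct.induction_on with
    | zero => simp
    | tmul a b =>
      rw [show (a ⊗ₜ[A] b : C ⊗[A] C) = (a ⊗ₜ 1) * (1 ⊗ₜ b) by simp, mul_assoc,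
        Algebra.FormallyUnramified.one_tmul_mul_elem, ← mul_assoc]
      simp [μ, E₀]
    | add a b ha hb => rw [add_mul, ha, hb, map_add, TensorProduct.add_tmul, add_mul]
  obtain ⟨t₀, ht₀, e, he⟩ := hθ.1 E₀
  have hγe : IsUnit (γ e) := by
    rw [← hμθ, ← he, map_smul, Algebra.FormallyUnramified.lmul_elem, Algebra.smul_def, mul_one]
    exact hu t₀ ht₀
  have hker : ∀ x, γ x = 0 → ∃ t ∈ M, t • (e * x) = 0 := fun x hx => hθ.2 _ (by
    rw [map_mul, ← he, smul_mul_assoc, mul_comm E₀, hE, hμθ, hx, TensorProduct.zero_tmul, zero_mul, smul_zero])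
  let φ : Localization.Away e →ₐ[A] C := IsLocalization.Away.liftAlgHom e (f := γ) hγe
  have hφ : ∀ x, φ (algebraMap _ _ x) = γ x := fun x => IsLocalization.Away.lift_eq _ hγe x
  refine ⟨e, φ, hφ, fun a => ?_⟩
  obtain ⟨t, ht, x, hx⟩ := hρ.1 (φ a)
  obtain ⟨⟨w, ⟨_, m, rfl⟩⟩, hw⟩ :=
    IsLocalization.surj (Submonoid.powers e) (t • a - algebraMap A' _ x)
  obtain ⟨t', ht', hw'⟩ := hker w (by
    rw [← hφ, ← hw, map_mul, map_sub, map_smul, hx, IsScalarTower.algebraMap_apply A' (A' ⊗[A] B) (Localization.Away e),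
      hφ, show algebraMap A' (A' ⊗[A] B) x = x ⊗ₜ 1 from rfl]
    simp [γ])
  refine ⟨t' * t, M.mul_mem ht' ht, t' • x, ?_⟩
  have hu' : IsUnit (algebraMap (A' ⊗[A] B) (Localization.Away e) (e * e ^ m)) := by
    rw [map_mul, map_pow]
    have := IsLocalization.Away.algebraMap_isUnit (S := Localization.Away e) e
    exact this.mul (this.pow m)
  rw [mul_smul, ← sub_eq_zero]
  rw [Algebra.smul_def t' x, map_mul, ← IsScalarTower.algebraMap_apply, ← Algebra.smul_def, ← smul_sub]
  refine hu'.mul_left_eq_zero.1 ?_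
  have h2 := congrArg (algebraMap (A' ⊗[A] B) (Localization.Away e)) hw'
  rw [Algebra.smul_def, map_mul, ← IsScalarTower.algebraMap_apply, map_mul, ← hw, map_zero] at h2
  rw [← h2, Algebra.smul_def t', map_mul]
  ring

end Groth.Agent.FlatMonoRep
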