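import Groth.Agent.LqfRep.Chart
import Groth.Agent.AlgSpLib.LocPMore
import Groth.Agent.AlgSpLib.PureMono
import Mathlib.RingTheory.RingHom.Etale

/-!
# Charts of spaces mapping monomorphically to an affine scheme
-/

universe u

open CategoryTheory CategoryTheory.Limits AlgebraicGeometry Opposite TensorProduct

set_option backward.isDefEq.respectTransparency false

namespace Groth.Agent.FlatMonoRep

open _root_.AlgSp Groth.Agent.AlgSpLib Groth.Agent.LqfRep

variable {S : Scheme.{u}} {A : CommRingCat.{u}} (str : Spec A ⟶ S)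
variable {X : Sp S} (f : X ⟶ (yon S).obj (bT str)) [Mono f]
variable {R E : Type u} [CommRing R] [Algebra A R] [CommRing E] [Algebra A E]
variable {π : (yon S).obj (aT str R) ⟶ X} {j : (yon S).obj (aT str E) ⟶ X}

/-- points of fibre products of schemes -/
lemma exists_preimage_of_isPullback {P X Y Z : Scheme.{u}} {fst : P ⟶ X} {snd : P ⟶ Y} {g : X ⟶ Z} {h : Y ⟶ Z}
    (sq : IsPullback fst snd g h) {x : X} {y : Y} (e : g x = h y) : ∃ z, fst z = x ∧ snd z = y := by
  obtain ⟨z, hz₁, hz₂⟩ := Scheme.Pullback.exists_preimage_pullback (f := g) (g := h) x y e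
  refine ⟨sq.isoPullback.inv z, ?_, ?_⟩
  · rw [← Scheme.Hom.comp_apply, sq.isoPullback_inv_fst, hz₁]
  · rw [← Scheme.Hom.comp_apply, sq.isoPullback_inv_snd, hz₂]

/-- fibre products of charts are tensor products -/
theorem isPullback_charts (hπ : π ≫ f = (yon S).map (aS str R)) (hj : j ≫ f = (yon S).map (aS str E)) :
    IsPullback ((yon S).map (aM str (Algebra.TensorProduct.includeRight : E →ₐ[A] R ⊗[A] E)))
      ((yon S).map (aM str (IsScalarTower.toAlgHom A R (R ⊗[A] E)))) j π := by
  have sq := isPullback_yon_aT str E R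
  refine isPullback_of_points ?_ fun T a b e => ?_
  · rw [← cancel_mono f, Category.assoc, Category.assoc, hπ, hj]
    exact sq.w
  · have e' : a ≫ (yon S).map (aS str E) = b ≫ (yon S).map (aS str R) := by
      rw [← hπ, ← hj, reassoc_of% e]
    exact ⟨sq.lift a b e', ⟨sq.lift_fst _ _ _, sq.lift_snd _ _ _⟩, fun c hc =>
      sq.hom_ext (hc.1.trans (sq.lift_fst _ _ _).symm) (hc.2.trans (sq.lift_snd _ _ _).symm)⟩

/-- the tensor product is etale over a chart -/
theorem etale_tensor (hπ : π ≫ f = (yon S).map (aS str R)) (hj : j ≫ f = (yon S).map (aS str E))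
    (hje : RepWith @Etale j) : Algebra.Etale R (R ⊗[A] E) := by
  have h : Etale (aM str (IsScalarTower.toAlgHom A R (R ⊗[A] E))).left :=
    hje.2 π _ _ (isPullback_charts str f hπ hj)
  exact RingHom.etale_algebraMap.1 (HasRingHomProperty.Spec_iff.1 h)

/-- the points of a chart lying over the image of an etale chart form an open set -/
theorem isOpen_over (hπ : π ≫ f = (yon S).map (aS str R)) (hj : j ≫ f = (yon S).map (aS str E))
    (hje : RepWith @Etale j) :
    IsOpen {Q : PrimeSpectrum R | ∃ Z : PrimeSpectrum E,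
      PrimeSpectrum.comap (algebraMap A E) Z = PrimeSpectrum.comap (algebraMap A R) Q} := by
  let q := (aM str (IsScalarTower.toAlgHom A R (R ⊗[A] E))).left
  have : Etale q := hje.2 π _ _ (isPullback_charts str f hπ hj)
  have : Flat q := inferInstance
  have hpb := ((isPullback_aT str E R).map (Over.forget S)).flip
  suffices h : {Q : PrimeSpectrum R | ∃ Z : PrimeSpectrum E,
      PrimeSpectrum.comap (algebraMap A E) Z = PrimeSpectrum.comap (algebraMap A R) Q} = Set.range q from
    h ▸ q.isOpenMap.isOpen_range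
  refine Set.ext fun Q => ?_
  constructor
  · rintro ⟨Z, hZ⟩
    obtain ⟨w, hw, -⟩ := exists_preimage_of_isPullback hpb (x := Q) (y := Z) hZ.symm
    exact ⟨w, hw⟩
  · rintro ⟨w, rfl⟩
    refine ⟨(aM str (Algebra.TensorProduct.includeRight : E →ₐ[A] R ⊗[A] E)).left w, ?_⟩
    exact congrArg (fun m => m w) hpb.w.symm

/-- an etale chart which is a monomorphism to the base and meets all fibres is an isomorphism -/
theorem isIso_of_etale_chart (hX : IsAlgSpace X) (hπ : π ≫ f = (yon S).map (aS str R))
    (hπs : RepWith @Surjective π) (hj : j ≫ f = (yon S).map (aS str E)) (hje : RepWith @Etale j)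
    (hmono : ∀ x : E, (1 : E) ⊗ₜ[A] x = x ⊗ₜ 1)
    (hsurj : ∀ Q : PrimeSpectrum R, ∃ Z : PrimeSpectrum E,
      PrimeSpectrum.comap (algebraMap A E) Z = PrimeSpectrum.comap (algebraMap A R) Q) :
    IsIso j := by
  have : Mono (aS str E) := ⟨fun {W} a b h => by
    have sq := isPullback_aT str E E
    have e : aM str (Algebra.TensorProduct.includeRight : E →ₐ[A] E ⊗[A] E) =
        aM str (IsScalarTower.toAlgHom A E (E ⊗[A] E)) := congrArg (aM str) (AlgHom.ext fun x => hmono x)
    exact (sq.lift_fst a b h).symm.trans ((congrArg (fun m => sq.lift a b h ≫ m) e).trans (sq.lift_snd a b h))⟩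
  have : Mono ((yon S).map (aS str E)) := inferInstance
  have : Mono j := mono_of_mono_fac hj
  have ho := repWith_isOpenImmersion_of_mono (IsAlgSpace.yon_obj _) hX j (isEtaleMor_of_repWith' hje)
  obtain ⟨g, hg⟩ := (exists_factor_iff (IsAlgSpace.yon_obj _) hX j ho (𝟙 X)).2 (by
    rintro _ ⟨x, rfl⟩
    obtain ⟨Q, rfl⟩ := ofPt_surjective hπs x
    obtain ⟨Z, hZ⟩ := hsurj Q
    obtain ⟨w, hw₁, hw₂⟩ := exists_preimage_of_isPullback
      ((isPullback_aT str E R).map (Over.forget S)) (x := Z) (y := Q) hZ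
    refine ⟨Points.ofScheme (aT str E) Z, ?_⟩
    rw [Points.map_ofPt, Category.id_comp, Points.map_ofPt, Category.comp_id]
    exact (ofPt_eq_iff (isPullback_charts str f hπ hj) _ _).2 ⟨w, hw₁, hw₂⟩)
  exact ⟨g, (cancel_mono j).1 (by rw [Category.assoc, hg, Category.comp_id, Category.id_comp]), hg⟩

end Groth.Agent.FlatMonoRep
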