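import Groth.Agent.FlatMonoRep.Core
import Groth.Agent.FlatMonoRep.Alg
import Groth.Agent.AlgSpLib.Criteria
import Mathlib.RingTheory.Ideal.GoingDown

/-!
# The local structure of flat monomorphisms over the points of the image
-/

universe u

open CategoryTheory CategoryTheory.Limits AlgebraicGeometry Opposite TensorProduct

set_option backward.isDefEq.respectTransparency false

namespace Groth.Agent.FlatMonoRep

open _root_.AlgSp Groth.Agent.AlgSpLib Groth.Agent.LqfRep

variable {S : Scheme.{u}}

/-- a flat surjective morphism of affine schemes is an fpqc covering -/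
theorem isFpqcCover_yon_affine {U T : Over S} (c : U ⟶ T) [IsAffine U.left] [IsAffine T.left] [hf : Flat c.left]
    [hs : Surjective c.left] :
    IsFpqcCover (fun _ : PUnit.{u + 1} => (yon S).obj U) (fun _ => (yon S).map c) := by
  have hr : RepWith @Flat ((yon S).map c) := (repWith_yon_iff _).2 hf
  refine ⟨fun _ => (locP_iff_repWith etST_flat (IsAlgSpace.yon_obj T) hr.1).2 hr, fun Z hZ ξ => ?_⟩
  obtain ⟨ξ, rfl⟩ := exists_map_eq ξ
  obtain ⟨W, w₁, w₂, sq⟩ := exists_pullback (IsAlgSpace.yon_obj T).diag ((yon S).map c) ((yon S).map ξ)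
  have hpb := isPullback_yon_iff.1 sq
  have : IsAffineHom w₂.left := MorphismProperty.of_isPullback (P := @IsAffineHom) hpb inferInstance
  have : IsAffine W.left := isAffine_of_isAffineHom w₂.left
  refine ⟨1, fun _ => W, fun _ => w₂, fun _ => ‹_›,
    fun _ => MorphismProperty.of_isPullback (P := @Flat) hpb hf, fun z => ?_,
    fun _ => ⟨PUnit.unit, (yon S).map w₁, sq.w⟩⟩
  have : Surjective w₂.left := MorphismProperty.of_isPullback (P := @Surjective) hpb hs
  exact ⟨0, w₂.left.surjective z⟩

variable {A : CommRingCat.{u}} (str : Spec A ⟶ S)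
variable {X : Sp S} (f : X ⟶ (yon S).obj (bT str))
variable {B : Type u} [CommRing B] [Algebra A B] {π : (yon S).obj (aT str B) ⟶ X}

/-- the base change of a chart -/
theorem isPullback_bcChart (A' : Type u) [CommRing A'] [Algebra A A'] (hπf : π ≫ f = (yon S).map (aS str B)) :
    IsPullback ((yon S).map (aM str (Algebra.TensorProduct.includeRight : B →ₐ[A] A' ⊗[A] B)))
      (bcChart str f A' hπf) π (pullback.fst f ((yon S).map (aS str A'))) := by
  refine IsPullback.of_bot ?_ (bcChart_fst str f A' hπf).symm (IsPullback.of_hasPullback _ _)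
  rw [bcChart_snd, hπf]
  exact isPullback_yon_aT str B A'

variable [Mono f]

/-- the base change of a chart to a local ring of a point in the image is etale -/
theorem etale_atPrime (hX : IsAlgSpace X) (hπe : RepWith @Etale π) (hπf : π ≫ f = (yon S).map (aS str B))
    [Module.Flat A B] (p : Ideal A) [p.IsPrime] (q : Ideal B) [q.IsPrime] [q.LiesOver p] :
    Algebra.Etale (Localization.AtPrime p) (Localization.AtPrime p ⊗[A] B) := by
  let R := Localization.AtPrime p
  let C := R ⊗[A] B
  have : Module.Flat R C := inferInstance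
  have hunit : ∀ t : p.primeCompl, IsUnit (algebraMap A q.ResidueField t) := fun t => by
    rw [IsScalarTower.algebraMap_apply A B q.ResidueField, isUnit_iff_ne_zero, ne_eq,
      Ideal.algebraMap_residueField_eq_zero]
    exact fun h => t.2 ((q.over_def p).symm ▸ h)
  let l : R →ₐ[A] q.ResidueField := ⟨IsLocalization.lift hunit, fun r => IsLocalization.lift_eq hunit r⟩
  let ψ : C →ₐ[A] q.ResidueField :=
    Algebra.TensorProduct.lift l (IsScalarTower.toAlgHom A B q.ResidueField) fun _ _ => mul_comm _ _
  let m : Ideal C := RingHom.ker ψ.toRingHom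
  have hm : m.IsPrime := RingHom.ker_isPrime _
  have : m.LiesOver (IsLocalRing.maximalIdeal R) := ⟨by
    ext x
    show x ∈ IsLocalRing.maximalIdeal R ↔ ψ (algebraMap R C x) = 0
    obtain ⟨y, t, rfl⟩ := IsLocalization.exists_mk'_eq p.primeCompl x
    rw [IsLocalization.AtPrime.mk'_mem_maximal_iff R p y t]
    show _ ↔ ψ (IsLocalization.mk' R y t ⊗ₜ 1) = 0
    rw [Algebra.TensorProduct.lift_tmul, map_one, mul_one]
    show _ ↔ IsLocalization.lift hunit (IsLocalization.mk' R y t) = 0
    rw [IsLocalization.lift_mk', Units.mul_left_eq_zero, IsScalarTower.algebraMap_apply A B q.ResidueField,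
      Ideal.algebraMap_residueField_eq_zero]
    exact q.mem_of_liesOver p y⟩
  have hs : Function.Surjective (PrimeSpectrum.comap (algebraMap R C)) := fun P => by
    obtain ⟨Q, -, hQ, hQP⟩ := Ideal.exists_ideal_le_liesOver_of_le m
      (IsLocalRing.le_maximalIdeal P.isPrime.ne_top)
    exact ⟨⟨Q, hQ⟩, PrimeSpectrum.ext hQP.over.symm⟩
  let g := aS str R
  have : Surjective (aM str (IsScalarTower.toAlgHom A R C)).left := ⟨hs⟩
  have : Flat (aM str (IsScalarTower.toAlgHom A R C)).left :=
    HasRingHomProperty.Spec_iff.2 (RingHom.flat_algebraMap_iff.2 ‹_›)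
  have : IsAffine (aT str R).left := inferInstanceAs (IsAffine (Spec _))
  have : IsAffine (aT str C).left := inferInstanceAs (IsAffine (Spec _))
  have hcov := isFpqcCover_yon_affine (aM str (IsScalarTower.toAlgHom A R C))
  have hP : IsAlgSpace (pullback f ((yon S).map g)) :=
    isAlgSpace_of_isPullback_space (IsAlgSpace.yon_obj _) hX (IsAlgSpace.yon_obj _) (IsPullback.of_hasPullback _ _)
  have sq : IsPullback (bcChart str f R hπf) (𝟙 _) (pullback.snd f ((yon S).map g))
      ((yon S).map (aM str (IsScalarTower.toAlgHom A R C))) := by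
    refine isPullback_of_points (by rw [bcChart_snd, Category.id_comp]) fun T a b e => ?_
    refine ⟨b, ⟨?_, Category.comp_id _⟩, fun c hc => by rw [← hc.2, Category.comp_id]⟩
    rw [← cancel_mono (pullback.snd f ((yon S).map g)), Category.assoc, bcChart_snd, e]
  have : IsIso (pullback.snd f ((yon S).map g)) :=
    (isLocalOnBase_isomorphisms _ _ (IsAlgSpace.yon_obj _) (fun _ => IsAlgSpace.yon_obj _)
      hcov _ hP _ (fun _ => 𝟙 _) (fun _ => bcChart str f R hπf) (fun _ => IsAlgSpace.yon_obj _) (fun _ => sq)).2
      fun _ => (inferInstance : IsIso (𝟙 ((yon S).obj (aT str C))))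
  have hb : RepWith @Etale (bcChart str f R hπf) := repWith_baseChange (isPullback_bcChart str f R hπf) hπe
  have hc := (repWith_comp_iso_iff (P := @Etale) (bcChart str f R hπf) (pullback.snd f ((yon S).map g))).2 hb
  rw [bcChart_snd, repWith_yon_iff] at hc
  exact RingHom.etale_algebraMap.1 (HasRingHomProperty.Spec_iff.1 hc)

end Groth.Agent.FlatMonoRep
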