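import Groth.Agent.FlatMonoRep.Piece
import Groth.Agent.AlgSpLib.FpqcProps
import Groth.Agent.AlgSpLib.Glue
import Groth.Agent.AlgSpLib.Zar
import Groth.Agent.AlgSpLib.LocPMore
import Mathlib.RingTheory.RingHom.Flat

/-!
# Flat monomorphisms are representable
-/

universe u

open CategoryTheory CategoryTheory.Limits AlgebraicGeometry Opposite TensorProduct

set_option backward.isDefEq.respectTransparency false

namespace Groth.Agent.FlatMonoRep

open _root_.AlgSp Groth.Agent.AlgSpLib Groth.Agent.LqfRep

variable {S : Scheme.{u}}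

/-- a quasi-compact space with a flat monomorphism to an affine scheme is a scheme -/
theorem exists_iso_yon_of_qc_affine {A : CommRingCat.{u}} (str : Spec A ⟶ S) {X : Sp S} (hX : IsAlgSpace X)
    (f : X ⟶ (yon S).obj (bT str)) [Mono f] (hfl : LocP @Flat f) {U : Over S} [IsAffine U.left]
    {π₀ : (yon S).obj U ⟶ X} (hπ₀e : RepWith @Etale π₀) (hπ₀s : RepWith @Surjective π₀) :
    ∃ W : Over S, Nonempty (X ≅ (yon S).obj W) := by
  obtain ⟨u, hu⟩ := exists_map_eq (π₀ ≫ f)
  obtain ⟨B, _, e, he⟩ := exists_aT_iso str U u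
  let π : (yon S).obj (aT str B) ⟶ X := (yon S).map e.inv ≫ π₀
  have hπe : RepWith @Etale π := (repWith_iso_comp_iff _ _).2 hπ₀e
  have hπs : RepWith @Surjective π := (repWith_iso_comp_iff _ _).2 hπ₀s
  have hπf : π ≫ f = (yon S).map (aS str B) := by
    rw [Category.assoc, ← hu, ← Functor.map_comp, ← he, e.inv_hom_id_assoc]
  have : Module.Flat A B := RingHom.flat_algebraMap_iff.1 (HasRingHomProperty.Spec_iff.1
    (hfl π (𝟙 _) (aS str B) hπe repWith_id' (by rw [hπf, Category.comp_id])))
  have key : ∀ q : PrimeSpectrum B, ∃ (V : Over S) (m : (yon S).obj V ⟶ X),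
      RepWith @IsOpenImmersion m ∧ Points.ofPt π (q : ↥(aT str B).left) ∈ Set.range (Points.map m) := by
    intro q
    obtain ⟨A'', _, _, _, W, _, k, σ, sq, hp⟩ := exists_affine_bc str f hX hπe hπs hπf q
    have : Etale (aS str A'').left := (repWith_yon_iff (P := @Etale) _).1 (repWith_etale_aS str A'')
    have : Flat (aS str A'').left := inferInstance
    let O : (bT str).left.Opens :=
      ⟨Set.range (aS str A'').left, (aS str A'').left.isOpenMap.isOpen_range⟩
    let WO : Over S := Over.mk (O.ι ≫ str)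
    let inc : WO ⟶ bT str := Over.homMk O.ι rfl
    have : IsOpenImmersion inc.left := inferInstanceAs (IsOpenImmersion O.ι)
    have hincl : RepWith @IsOpenImmersion ((yon S).map inc) := (repWith_yon_iff _).2 ‹_›
    have hr : Set.range (aS str A'').left ⊆ Set.range inc.left := by
      rintro _ ⟨y, rfl⟩
      exact ⟨⟨_, y, rfl⟩, rfl⟩
    let h : aT str A'' ⟶ WO := Over.homMk (IsOpenImmersion.lift inc.left (aS str A'').left hr) (by
      rw [← Over.w inc, ← Category.assoc, IsOpenImmersion.lift_fac]
      exact Over.w (aS str A''))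
    have hh : h ≫ inc = aS str A'' := Over.OverMorphism.ext (IsOpenImmersion.lift_fac _ _ _)
    have : Etale h.left := by
      have : Etale (h.left ≫ inc.left) := by rw [← Over.comp_left, hh]; infer_instance
      exact Etale.of_comp _ inc.left
    have hhs : Surjective h.left := ⟨by
      rintro ⟨y, z, rfl⟩
      refine ⟨z, inc.left.isOpenEmbedding.injective ?_⟩
      rw [← Scheme.Hom.comp_apply, ← Over.comp_left, hh]
      rfl⟩
    have he' : RepWith @Etale ((yon S).map h) := (repWith_yon_iff _).2 ‹_›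
    have hcov : IsFpqcCover (fun _ : PUnit.{u + 1} => (yon S).obj (aT str A'')) (fun _ => (yon S).map h) :=
      isFpqcCover_chart (IsAlgSpace.yon_obj WO) he' ((repWith_yon_iff _).2 hhs)
    have sqO := IsPullback.of_hasPullback f ((yon S).map inc)
    have hXO : IsAlgSpace (pullback f ((yon S).map inc)) :=
      isAlgSpace_of_isPullback_space (IsAlgSpace.yon_obj _) hX (IsAlgSpace.yon_obj _) sqO
    have sq' : IsPullback σ ((yon S).map k) f ((yon S).map h ≫ (yon S).map inc) := by
      rw [← Functor.map_comp, hh]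
      exact sq
    let l : (yon S).obj W ⟶ pullback f ((yon S).map inc) :=
      pullback.lift σ ((yon S).map k ≫ (yon S).map h) (by rw [Category.assoc]; exact sq'.w)
    have sql : IsPullback l ((yon S).map k) (pullback.snd f ((yon S).map inc)) ((yon S).map h) := by
      refine IsPullback.of_right ?_ (pullback.lift_snd _ _ _) sqO
      rw [pullback.lift_fst]
      exact sq'
    have : IsAffine (aT str A'').left := inferInstanceAs (IsAffine (Spec _))
    have hka : IsAffineHom k.left := inferInstance
    have haff : RepWith @IsAffineHom (pullback.snd f ((yon S).map inc)) :=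
      repWith_of_fpqcCover @IsAffineHom (fun _ _ r h => have : IsAffineHom r := h; indQA_of_isAffineHom r)
        (IsAlgSpace.yon_obj WO) hXO hcov _ (fun _ => (yon S).obj W) (fun _ => (yon S).map k) (fun _ => l)
        (fun _ => sql) fun _ => (repWith_yon_iff _).2 hka
    obtain ⟨V, a, b, sqV, -⟩ := exists_repWith haff (𝟙 ((yon S).obj WO))
    have : IsIso a := sqV.isIso_fst_of_isIso
    refine ⟨V, a ≫ pullback.fst _ _, (repWith_iso_comp_iff a _).2 (repWith_baseChange sqO.flip hincl), ?_⟩
    obtain ⟨z, hz⟩ := hp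
    have hpO : (aS str B).left q ∈ O := ⟨z, hz⟩
    obtain ⟨r, hr, -⟩ := exists_point_of_isPullback sqO (Points.ofPt π q) (Points.ofScheme WO ⟨_, hpO⟩) (by
      rw [Points.map_ofPt, hπf, Points.map_ofPt, Category.id_comp, ofScheme_map, ofScheme_map]
      rfl)
    exact ⟨Points.map (inv a) r, by rw [← Points.map_comp, IsIso.inv_hom_id_assoc]; exact hr⟩
  choose V m hm hmem using key
  exact exists_iso_yon_of_open_cover hX (ι := PrimeSpectrum B) V m hm fun x => by
    obtain ⟨q, rfl⟩ := ofPt_surjective hπs x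
    exact ⟨q, hmem q⟩

/-- a space with a flat monomorphism to a scheme is a scheme -/
theorem exists_iso_yon_of_flat_mono {X : Sp S} (hX : IsAlgSpace X) {T : Over S}
    (f : X ⟶ (yon S).obj T) [Mono f] (hfl : LocP @Flat f) :
    ∃ W : Over S, Nonempty (X ≅ (yon S).obj W) := by
  let 𝒰 := T.left.affineCover
  let T' : 𝒰.I₀ → Over S := fun k => Over.mk (𝒰.f k ≫ T.hom)
  let e : ∀ k, T' k ⟶ T := fun k => Over.homMk (𝒰.f k) rfl
  have he : ∀ k, RepWith @IsOpenImmersion ((yon S).map (e k)) := fun k =>
    (repWith_yon_iff _).2 (inferInstanceAs (IsOpenImmersion (𝒰.f k)))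
  have hXk : ∀ k, IsAlgSpace (pullback f ((yon S).map (e k))) := fun k =>
    isAlgSpace_of_isPullback_space (IsAlgSpace.yon_obj _) hX (IsAlgSpace.yon_obj _) (IsPullback.of_hasPullback _ _)
  choose J Xi j hj hchart using fun k => exists_affine_open_subspaces (hXk k)
  have key : ∀ (k : 𝒰.I₀) (i : J k), ∃ W : Over S, Nonempty ((Xi k i).obj ≅ (yon S).obj W) := by
    intro k i
    obtain ⟨U, a, hU, hae, has, -⟩ := hchart k i
    have sqk := IsPullback.of_hasPullback f ((yon S).map (e k))
    let jj := j k i ≫ pullback.fst f ((yon S).map (e k))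
    have hjj : RepWith @IsOpenImmersion jj :=
      repWith_comp ((hj k).1 i) (repWith_baseChange sqk.flip (he k))
    have hjje : RepWith @Etale jj := repWith_mono (P := @IsOpenImmersion) (Q := @Etale)
      (fun _ _ r hr => have : IsOpenImmersion r := hr; inferInstance) hjj
    have : Mono (j k i) := mono_of_repWith_immersion (repWith_mono (P := @IsOpenImmersion) (Q := @IsImmersion)
      (fun _ _ g hg => have : IsOpenImmersion g := hg; inferInstance) ((hj k).1 i))
    have : IsAffine (T' k).left := inferInstanceAs (IsAffine (𝒰.X k))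
    let ι : T' k ≅ bT ((T' k).left.isoSpec.inv ≫ (T' k).hom) := Over.isoMk (T' k).left.isoSpec (by simp)
    let g := (j k i ≫ pullback.snd f ((yon S).map (e k))) ≫ (yon S).map ι.hom
    have : Mono g := inferInstance
    refine exists_iso_yon_of_qc_affine _ (Xi k i).property g (fun U' V' a' b' h' ha' hb' comm => ?_) hae has
    refine hfl (a' ≫ jj) ((b' ≫ (yon S).map ι.inv) ≫ (yon S).map (e k)) h' (repWith_comp ha' hjje)
      (repWith_comp (repWith_comp hb' ((repWith_yon_iff _).2 (inferInstanceAs (Etale ι.inv.left))))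
        ((repWith_yon_iff _).2 (inferInstanceAs (Etale (𝒰.f k))))) ?_
    simp only [g, jj, Category.assoc, sqk.w] at comm ⊢
    rw [← reassoc_of% comm]
    simp [← Functor.map_comp_assoc, ι.hom_inv_id]
  choose W hW using key
  refine exists_iso_yon_of_open_cover hX (ι := Σ k, J k) (fun x => W x.1 x.2)
    (fun x => (hW x.1 x.2).some.inv ≫ j x.1 x.2 ≫ pullback.fst f ((yon S).map (e x.1))) (fun x => ?_) fun p => ?_
  · exact (repWith_iso_comp_iff _ _).2 (repWith_comp ((hj x.1).1 x.2)
      (repWith_baseChange (IsPullback.of_hasPullback f ((yon S).map (e x.1))).flip (he x.1)))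
  · obtain ⟨t, ht⟩ := (Points.schemeEquiv T).surjective (Points.map f p)
    obtain ⟨k, t', rfl⟩ : ∃ k t', 𝒰.f k t' = t :=
      ⟨𝒰.idx t, 𝒰.covers t⟩
    obtain ⟨r, hr, -⟩ := exists_point_of_isPullback (IsPullback.of_hasPullback f ((yon S).map (e k))) p
      (Points.ofScheme (T' k) t') (by
        rw [Points.map_ofPt, Category.id_comp, ofScheme_map]
        exact ht.symm)
    obtain ⟨i, x, hx⟩ := (hj k).2 r
    refine ⟨⟨k, i⟩, Points.map (hW k i).some.hom x, ?_⟩
    rw [← Points.map_comp, Iso.hom_inv_id_assoc, Points.map_comp, hx, hr]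

/-- flat monomorphisms of algebraic spaces are representable -/
theorem representable_of_flat_mono {X Y : Sp S} (hX : IsAlgSpace X) (hY : IsAlgSpace Y) (f : X ⟶ Y) [Mono f]
    (hfl : LocP @Flat f) : Representable f := by
  intro U ξ
  have sq := IsPullback.of_hasPullback f ξ
  have hP' : IsAlgSpace (pullback f ξ) := isAlgSpace_of_isPullback_space hY hX (IsAlgSpace.yon_obj U) sq
  obtain ⟨W, ⟨φ⟩⟩ := exists_iso_yon_of_flat_mono hP' (pullback.snd f ξ)
    (locP_baseChange etST_flat hX hY hP' (IsAlgSpace.yon_obj U) sq hfl)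
  obtain ⟨s, hs⟩ := exists_map_eq (φ.inv ≫ pullback.snd f ξ)
  refine ⟨W, s, φ.inv ≫ pullback.fst f ξ, ?_⟩
  exact sq.of_iso φ (Iso.refl _) (Iso.refl _) (Iso.refl _) (by simp) (by simp [hs]) (by simp) (by simp)

end Groth.Agent.FlatMonoRep
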