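import Groth.Agent.FlatMonoRep.Local
import Mathlib.RingTheory.Unramified.Basic
import Mathlib.RingTheory.EssentialFiniteness

/-!
# Flat monomorphisms are affine over an etale neighbourhood of a point of the image
-/

universe u

open CategoryTheory CategoryTheory.Limits AlgebraicGeometry Opposite TensorProduct

set_option backward.isDefEq.respectTransparency false

namespace Groth.Agent.FlatMonoRep

open _root_.AlgSp Groth.Agent.AlgSpLib Groth.Agent.LqfRep

variable {S : Scheme.{u}} {A : CommRingCat.{u}} (str : Spec A ⟶ S)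

/-- the structure map of an algebra over the base -/
noncomputable abbrev extStr (A' : Type u) [CommRing A'] [Algebra A A'] : Spec (CommRingCat.of A') ⟶ S :=
  Spec.map (CommRingCat.ofHom (algebraMap A A')) ≫ str

/-- comparison of the schemes of an algebra over two bases -/
noncomputable def cmp (A' : Type u) [CommRing A'] [Algebra A A'] (R : Type u) [CommRing R] [Algebra A R] [Algebra A' R]
    [IsScalarTower A A' R] : aT (extStr str A') R ≅ aT str R :=
  Over.isoMk (Iso.refl _) (by
    show 𝟙 _ ≫ Spec.map (CommRingCat.ofHom (algebraMap A R)) ≫ str =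
      Spec.map (CommRingCat.ofHom (algebraMap A' R)) ≫ Spec.map (CommRingCat.ofHom (algebraMap A A')) ≫ str
    rw [Category.id_comp, ← Spec.map_comp_assoc, ← CommRingCat.ofHom_comp, ← IsScalarTower.algebraMap_eq])

lemma cmp_aM (A' : Type u) [CommRing A'] [Algebra A A'] (R : Type u) [CommRing R] [Algebra A R] [Algebra A' R]
    [IsScalarTower A A' R] :
    (cmp str A' R).hom ≫ aM str (IsScalarTower.toAlgHom A A' R) = aS (extStr str A') R := by
  ext1
  show 𝟙 _ ≫ Spec.map _ = Spec.map _
  rw [Category.id_comp]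
  rfl

lemma isMLoc_includeRight (M : Submonoid A) (R : Type u) [CommRing R] [Algebra A R] [IsLocalization M R]
    (B : Type u) [CommRing B] [Algebra A B] :
    IsMLoc M (Algebra.TensorProduct.includeRight : B →ₐ[A] R ⊗[A] B) := by
  refine ⟨fun y => ?_, fun x hx => ?_⟩
  · induction y using TensorProduct.induction_on with
    | zero => exact ⟨1, M.one_mem, 0, by simp⟩
    | tmul a b =>
      obtain ⟨⟨x, t⟩, hx⟩ := IsLocalization.surj M a
      refine ⟨t, t.2, x • b, ?_⟩
      rw [Algebra.TensorProduct.includeRight_apply, TensorProduct.smul_tmul', TensorProduct.tmul_smul,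
        TensorProduct.smul_tmul', Algebra.smul_def, Algebra.smul_def, mul_one, mul_comm, hx]
    | add a b ha hb =>
      obtain ⟨t, ht, x, hx⟩ := ha
      obtain ⟨t', ht', x', hx'⟩ := hb
      refine ⟨t * t', M.mul_mem ht ht', t' • x + t • x', ?_⟩
      rw [map_add, map_smul, map_smul, ← hx, ← hx', smul_add, smul_smul, smul_smul, mul_comm t]
  · have hx' : algebraMap B (B ⊗[A] R) x = 0 := by
      have := congrArg (Algebra.TensorProduct.comm A R B) hx
      rwa [Algebra.TensorProduct.includeRight_apply, Algebra.TensorProduct.comm_tmul, map_zero] at this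
    obtain ⟨⟨_, t, ht, rfl⟩, h⟩ :=
      (IsLocalization.map_eq_zero_iff (Algebra.algebraMapSubmonoid B M) _ x).1 hx'
    exact ⟨t, ht, by rw [Algebra.smul_def]; exact h⟩

/-- finitely many scalars make the diagonal of a localized piece trivial -/
lemma exists_diag_torsion {A₀ A' E : Type u} [CommRing A₀] [CommRing A'] [CommRing E] [Algebra A₀ A'] [Algebra A₀ E]
    [Algebra A' E] [IsScalarTower A₀ A' E] {M : Submonoid A₀}
    (h : ∀ a : E, ∃ t ∈ M, ∃ x : A', t • a = algebraMap A' E x) [hft : Algebra.FiniteType E (E ⊗[A'] E)] :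
    ∃ t ∈ M, ∀ a : E, t • ((1 : E) ⊗ₜ[A'] a - a ⊗ₜ 1) = 0 := by
  classical
  let ν : E ⊗[A'] E →ₐ[A'] E ⊗[A'] E :=
    (Algebra.TensorProduct.includeLeft : E →ₐ[A'] E ⊗[A'] E).comp (Algebra.TensorProduct.lmul' A')
  have h1 : ∀ w : E ⊗[A'] E, ∃ t ∈ M, t • (w - ν w) = 0 := fun w => by
    induction w using TensorProduct.induction_on with
    | zero => exact ⟨1, M.one_mem, by simp⟩
    | tmul a b =>
      obtain ⟨t, ht, x, hx⟩ := h b
      refine ⟨t, ht, ?_⟩
      rw [show ν (a ⊗ₜ b) = (a * b) ⊗ₜ 1 by simp [ν], smul_sub, ← TensorProduct.tmul_smul, hx,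
        TensorProduct.smul_tmul', Algebra.algebraMap_eq_smul_one, ← TensorProduct.smul_tmul, sub_eq_zero]
      congr 1
      rw [← mul_smul_comm, hx, Algebra.smul_def, mul_comm]
    | add a b ha hb =>
      obtain ⟨t, ht, h1⟩ := ha
      obtain ⟨t', ht', h2⟩ := hb
      refine ⟨t * t', M.mul_mem ht ht', ?_⟩
      rw [map_add, add_sub_add_comm, smul_add]
      nth_rewrite 1 [mul_comm t]
      rw [mul_smul, mul_smul, h1, h2, smul_zero, smul_zero, add_zero]
  obtain ⟨s, hs⟩ := hft.out
  choose τ hτ hτ' using h1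
  refine ⟨∏ x ∈ s, τ x, M.prod_mem fun x _ => hτ x, fun a => ?_⟩
  obtain ⟨T, hT⟩ : ∃ T, T = ∏ x ∈ s, τ x := ⟨_, rfl⟩
  rw [← hT]
  suffices H : ∀ w : E ⊗[A'] E, T • (w - ν w) = 0 by
    simpa [ν] using H ((1 : E) ⊗ₜ[A'] a)
  intro w
  have hw : w ∈ Algebra.adjoin E (s : Set (E ⊗[A'] E)) := hs.symm ▸ trivial
  induction hw using Algebra.adjoin_induction with
  | mem x hx =>
    rw [hT, ← Finset.prod_erase_mul s τ (Finset.mem_coe.1 hx), mul_smul, hτ', smul_zero]
  | algebraMap r => simp [ν, Algebra.TensorProduct.algebraMap_apply]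
  | add x y _ _ hx hy => rw [map_add, add_sub_add_comm, smul_add, hx, hy, add_zero]
  | mul x y _ _ hx hy =>
    rw [map_mul, show x * y - ν x * ν y = x * (y - ν y) + ν y * (x - ν x) by ring, smul_add, ← mul_smul_comm,
      ← mul_smul_comm, hx, hy, mul_zero, mul_zero, add_zero]

/-- the diagonal becomes trivial after inverting the scalar -/
lemma tmul_comm_of_torsion {A₀ A' A'' E : Type u} [CommRing A₀] [CommRing A'] [CommRing A''] [CommRing E]
    [Algebra A₀ A'] [Algebra A₀ E] [Algebra A' E] [IsScalarTower A₀ A' E] [Algebra A₀ A''] [Algebra A' A'']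
    [IsScalarTower A₀ A' A''] {t : A₀} (hu : IsUnit (algebraMap A₀ A'' t))
    (h : ∀ a : E, t • ((1 : E) ⊗ₜ[A'] a - a ⊗ₜ 1) = 0) (x : A'' ⊗[A'] E) :
    (1 : A'' ⊗[A'] E) ⊗ₜ[A''] x = x ⊗ₜ 1 := by
  let L : A'' ⊗[A'] E →ₐ[A''] (A'' ⊗[A'] E) ⊗[A''] (A'' ⊗[A'] E) := Algebra.TensorProduct.includeLeft
  let Rr : A'' ⊗[A'] E →ₐ[A''] (A'' ⊗[A'] E) ⊗[A''] (A'' ⊗[A'] E) := Algebra.TensorProduct.includeRight
  suffices hLR : Rr = L from DFunLike.congr_fun hLR x
  refine Algebra.TensorProduct.ext (Subsingleton.elim _ _) (AlgHom.ext fun a => ?_)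
  let f₁ := (L.restrictScalars A').comp (Algebra.TensorProduct.includeRight (R := A') (A := A'') (B := E))
  let f₂ := (Rr.restrictScalars A').comp (Algebra.TensorProduct.includeRight (R := A') (A := A'') (B := E))
  have h1 := congrArg (Algebra.TensorProduct.lift f₁ f₂ fun a b => Commute.all (f₁ a) (f₂ b)) (h a)
  rw [map_zero, ← algebraMap_smul A', map_smul, ← algebraMap_smul A'', map_sub, Algebra.TensorProduct.lift_tmul,
    Algebra.TensorProduct.lift_tmul, map_one, map_one, one_mul, mul_one, ← IsScalarTower.algebraMap_apply,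
    hu.smul_eq_zero] at h1
  exact sub_eq_zero.1 h1

variable {X : Sp S} (f : X ⟶ (yon S).obj (bT str)) [Mono f]
variable {B : Type u} [CommRing B] [Algebra A B] {π : (yon S).obj (aT str B) ⟶ X}

/-- the piece becomes the whole base change after an etale base change -/
theorem exists_affine_bc (hX : IsAlgSpace X) (hπe : RepWith @Etale π) (hπs : RepWith @Surjective π)
    (hπf : π ≫ f = (yon S).map (aS str B)) [Module.Flat A B] (q : PrimeSpectrum B) :
    ∃ (A'' : Type u) (_ : CommRing A'') (_ : Algebra A A'') (_ : Algebra.Etale A A'') (W : Over S)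
      (_ : IsAffine W.left) (k : W ⟶ aT str A'') (σ : (yon S).obj W ⟶ X),
      IsPullback σ ((yon S).map k) f ((yon S).map (aS str A'')) ∧
      PrimeSpectrum.comap (algebraMap A B) q ∈ Set.range (PrimeSpectrum.comap (algebraMap A A'')) := by
  let p : Ideal A := q.asIdeal.under A
  have : q.asIdeal.LiesOver p := ⟨rfl⟩
  let M := p.primeCompl
  let R := Localization.AtPrime p
  let C := R ⊗[A] B
  have hCet : Algebra.Etale R C := etale_atPrime str f hX hπe hπf p q.asIdeal
  have hu : ∀ t ∈ M, IsUnit (algebraMap A C t) := fun t ht => by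
    rw [IsScalarTower.algebraMap_apply A R C]
    exact (IsLocalization.map_units R (⟨t, ht⟩ : M)).map _
  have : Algebra.FormallyUnramified A R := Algebra.FormallyUnramified.of_isLocalization M
  have : Algebra.FormallyUnramified A C := Algebra.FormallyUnramified.comp A R C
  have : Algebra.EssFiniteType A R := Algebra.EssFiniteType.of_isLocalization R M
  have : Algebra.EssFiniteType A C := Algebra.EssFiniteType.comp A R C
  obtain ⟨A', _, _, _, ρ, hρ⟩ := exists_etale_model M R C
  obtain ⟨e, φ, hφ, ha⟩ := exists_piece hρ (isMLoc_includeRight M R B) hu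
  let U := A' ⊗[A] B
  let E := Localization.Away e
  have : Mono (pullback.snd f ((yon S).map (aS str A'))) := inferInstance
  have hbe : RepWith @Etale (bcChart str f A' hπf) := repWith_baseChange (isPullback_bcChart str f A' hπf) hπe
  let π' := (yon S).map (cmp str A' U).hom ≫ bcChart str f A' hπf
  have hπ'f : π' ≫ pullback.snd f ((yon S).map (aS str A')) = (yon S).map (aS (extStr str A') U) := by
    rw [Category.assoc, bcChart_snd, ← Functor.map_comp, cmp_aM]
  let jE := (yon S).map (cmp str A' E).hom ≫ (yon S).map (aM str (IsScalarTower.toAlgHom A U E)) ≫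
    bcChart str f A' hπf
  have hjEf : jE ≫ pullback.snd f ((yon S).map (aS str A')) = (yon S).map (aS (extStr str A') E) := by
    rw [Category.assoc, Category.assoc, bcChart_snd, ← Functor.map_comp, ← aM_comp, ← Functor.map_comp,
      show (IsScalarTower.toAlgHom A U E).comp (IsScalarTower.toAlgHom A A' U) = IsScalarTower.toAlgHom A A' E from
        AlgHom.ext fun x => (IsScalarTower.algebraMap_apply A' U E x).symm, cmp_aM]
  have hjEe : RepWith @Etale jE := (repWith_iso_comp_iff _ _).2 (repWith_comp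
    ((repWith_yon_iff _).2 (etale_aM str _ (RingHom.etale_algebraMap.2 (inferInstance : Algebra.Etale U E)))) hbe)
  have : Algebra.Etale E (E ⊗[A'] E) :=
    etale_tensor (extStr str A') (pullback.snd f ((yon S).map (aS str A'))) hjEf hjEf hjEe
  obtain ⟨t₁, ht₁, hdiag⟩ := exists_diag_torsion ha
  obtain ⟨I, hI⟩ := (PrimeSpectrum.isClosed_iff_zeroLocus_ideal _).1
    (isOpen_over (extStr str A') (pullback.snd f ((yon S).map (aS str A'))) hπ'f hjEf hjEe).isClosed_compl
  obtain ⟨t₂, ht₂, ht₂I⟩ : ∃ t ∈ M, algebraMap A U t ∈ I := by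
    by_contra h
    have hd : Disjoint (I : Set U) (Algebra.algebraMapSubmonoid U M) := by
      rw [Set.disjoint_left]
      rintro _ hx ⟨t, ht, rfl⟩
      exact h ⟨t, ht, hx⟩
    obtain ⟨Q, hQ, hIQ, hQd⟩ := Ideal.exists_le_prime_disjoint I _ hd
    let P : Ideal A' := Q.comap (algebraMap A' U)
    have hPd : Disjoint (Algebra.algebraMapSubmonoid A' M : Set A') P := by
      rw [Set.disjoint_left]
      rintro _ ⟨t, ht, rfl⟩ hP
      refine Set.disjoint_left.1 hQd ?_ ⟨t, ht, rfl⟩
      rw [IsScalarTower.algebraMap_apply A A' U]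
      exact hP
    let _ : Algebra A' C := ρ.toRingHom.toAlgebra
    have : IsLocalization (Algebra.algebraMapSubmonoid A' M) C := hρ.isLocalization hu
    have hPC := IsLocalization.isPrime_of_isPrime_disjoint (Algebra.algebraMapSubmonoid A' M) C P inferInstance hPd
    have hPC' := IsLocalization.under_map_of_isPrime_disjoint (Algebra.algebraMapSubmonoid A' M) C inferInstance hPd
    let Z : PrimeSpectrum E := PrimeSpectrum.comap φ.toRingHom ⟨_, hPC⟩
    have hZ : PrimeSpectrum.comap (algebraMap A' E) Z = PrimeSpectrum.comap (algebraMap A' U) ⟨Q, hQ⟩ := by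
      refine PrimeSpectrum.ext (Eq.trans ?_ hPC')
      ext x
      show φ (algebraMap A' E x) ∈ P.map (algebraMap A' C) ↔ ρ x ∈ P.map (algebraMap A' C)
      rw [IsScalarTower.algebraMap_apply A' U E, hφ]
      simp [U]
    exact hI.symm.le (show (⟨Q, hQ⟩ : PrimeSpectrum U) ∈ PrimeSpectrum.zeroLocus (I : Set U) from hIQ) ⟨Z, hZ⟩
  obtain ⟨t, ht⟩ : ∃ t, t = t₁ * t₂ := ⟨_, rfl⟩
  let A'' := Localization.Away (algebraMap A A' t)
  have : Algebra.Etale A A'' := Algebra.Etale.comp A A' A''
  have htu : IsUnit (algebraMap A A'' t) := by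
    rw [IsScalarTower.algebraMap_apply A A' A'']
    exact IsLocalization.Away.algebraMap_isUnit _
  let E'' := A'' ⊗[A'] E
  let iR : E →ₐ[A] E'' := (Algebra.TensorProduct.includeRight (R := A') (A := A'') (B := E)).restrictScalars A
  let v : B →ₐ[A] E'' := iR.comp ((IsScalarTower.toAlgHom A U E).comp Algebra.TensorProduct.includeRight)
  have hv : v.toRingHom.Etale :=
    RingHom.Etale.stableUnderComposition _ _
      (RingHom.Etale.stableUnderComposition _ _ etale_includeRight
        (RingHom.etale_algebraMap.2 (inferInstance : Algebra.Etale U E)))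
      (etale_includeRight (A := A') (A' := A'') (B := E))
  let g'' := aS str A''
  have hX'' : IsAlgSpace (pullback f ((yon S).map g'')) :=
    isAlgSpace_of_isPullback_space (IsAlgSpace.yon_obj _) hX (IsAlgSpace.yon_obj _) (IsPullback.of_hasPullback _ _)
  let c := IsScalarTower.toAlgHom A A'' E''
  let j : (yon S).obj (aT str E'') ⟶ pullback f ((yon S).map g'') :=
    pullback.lift ((yon S).map (aM str v) ≫ π) ((yon S).map (aM str c)) (by
      rw [Category.assoc, hπf, ← Functor.map_comp, ← Functor.map_comp, aM_aS, aM_aS])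
  have hje : RepWith @Etale j := by
    refine repWith_etale_of_comp hX'' hX ?_ (isEtaleMor_of_repWith' (repWith_baseChange
      (IsPullback.of_hasPullback f ((yon S).map g'')).flip (repWith_etale_aS str A'')))
    rw [pullback.lift_fst]
    exact repWith_comp ((repWith_yon_iff _).2 (etale_aM str v hv)) hπe
  have : IsIso ((yon S).map (cmp str A'' E'').hom ≫ j) := by
    refine isIso_of_etale_chart (extStr str A'') (pullback.snd f ((yon S).map g''))
      (π := (yon S).map (cmp str A'' (A'' ⊗[A] B)).hom ≫ bcChart str f A'' hπf) hX'' ?_ ?_ ?_ ?_ ?_ ?_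
    · rw [Category.assoc, bcChart_snd, ← Functor.map_comp, cmp_aM]
    · exact (repWith_iso_comp_iff _ _).2 (repWith_baseChange (isPullback_bcChart str f A'' hπf) hπs)
    · rw [Category.assoc, pullback.lift_snd, ← Functor.map_comp, cmp_aM]
    · exact (repWith_iso_comp_iff _ _).2 hje
    · refine fun x => tmul_comm_of_torsion (t := t₁) (isUnit_of_mul_isUnit_left (y := algebraMap A A'' t₂) ?_) hdiag x
      rw [← map_mul, ← ht]
      exact htu
    · intro Q''
      let μ : U →+* A'' ⊗[A] B :=
        (Algebra.TensorProduct.map (IsScalarTower.toAlgHom A A' A'') (AlgHom.id A B)).toRingHom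
      let Q : PrimeSpectrum U := PrimeSpectrum.comap μ Q''
      have htQ : algebraMap A U t ∉ Q.asIdeal := fun h => by
        refine Q''.isPrime.ne_top (Ideal.eq_top_of_isUnit_mem _ h ?_)
        show IsUnit ((Algebra.TensorProduct.map (IsScalarTower.toAlgHom A A' A'') (AlgHom.id A B)) (algebraMap A U t))
        rw [AlgHom.commutes, IsScalarTower.algebraMap_apply A A'' (A'' ⊗[A] B) t]
        exact htu.map _
      obtain ⟨Z, hZ⟩ : ∃ Z : PrimeSpectrum E,
          PrimeSpectrum.comap (algebraMap A' E) Z = PrimeSpectrum.comap (algebraMap A' U) Q := by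
        by_contra h
        have h' : Q ∈ PrimeSpectrum.zeroLocus (I : Set U) := hI ▸ h
        exact htQ (by rw [ht, map_mul]; exact Q.asIdeal.mul_mem_left _ (h' ht₂I))
      let K := Z.asIdeal.ResidueField
      have htK : IsUnit (algebraMap A' K (algebraMap A A' t)) := by
        rw [IsScalarTower.algebraMap_apply A' E K, isUnit_iff_ne_zero, ne_eq, Ideal.algebraMap_residueField_eq_zero]
        intro h
        refine htQ ?_
        have h' : algebraMap A A' t ∈ (PrimeSpectrum.comap (algebraMap A' U) Q).asIdeal := hZ ▸ h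
        rw [IsScalarTower.algebraMap_apply A A' U]
        exact h'
      let α : A'' →ₐ[A'] K := IsLocalization.Away.liftAlgHom (algebraMap A A' t) (f := Algebra.ofId A' K) htK
      let ψ : E'' →ₐ[A'] K :=
        Algebra.TensorProduct.lift α (IsScalarTower.toAlgHom A' E K) fun _ _ => mul_comm _ _
      let Z'' : PrimeSpectrum E'' := ⟨RingHom.ker ψ.toRingHom, RingHom.ker_isPrime _⟩
      refine ⟨Z'', PrimeSpectrum.localization_comap_injective A'' (Submonoid.powers (algebraMap A A' t)) ?_⟩
      refine Eq.trans ?_ (hZ.trans ?_)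
      · refine PrimeSpectrum.ext (Ideal.ext fun y => ?_)
        show ψ (algebraMap A'' E'' (algebraMap A' A'' y)) = 0 ↔ algebraMap A' E y ∈ Z.asIdeal
        rw [← IsScalarTower.algebraMap_apply, ψ.commutes, IsScalarTower.algebraMap_apply A' E K,
          Ideal.algebraMap_residueField_eq_zero]
      · refine PrimeSpectrum.ext (Ideal.ext fun y => ?_)
        show μ (algebraMap A' U y) ∈ Q''.asIdeal ↔ algebraMap A'' (A'' ⊗[A] B) (algebraMap A' A'' y) ∈ Q''.asIdeal
        simp [μ, U]
  have : IsIso j := IsIso.of_isIso_comp_left ((yon S).map (cmp str A'' E'').hom) j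
  refine ⟨A'', _, _, ‹_›, aT str E'', inferInstanceAs (IsAffine (Spec _)), aM str c, (yon S).map (aM str v) ≫ π,
    IsPullback.of_iso_pullback ⟨by
      rw [Category.assoc, hπf, ← Functor.map_comp, ← Functor.map_comp, aM_aS, aM_aS]⟩ (asIso j)
      (pullback.lift_fst _ _ _) (pullback.lift_snd _ _ _), ?_⟩
  -- a prime over `p`
  have hunit : ∀ r : p.primeCompl, IsUnit (algebraMap A q.asIdeal.ResidueField r) := fun r => by
    rw [IsScalarTower.algebraMap_apply A B q.asIdeal.ResidueField, isUnit_iff_ne_zero, ne_eq,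
      Ideal.algebraMap_residueField_eq_zero]
    exact fun h => r.2 h
  let l : R →ₐ[A] q.asIdeal.ResidueField :=
    ⟨IsLocalization.lift hunit, fun r => IsLocalization.lift_eq hunit r⟩
  let ψ : C →ₐ[A] q.asIdeal.ResidueField :=
    Algebra.TensorProduct.lift l (IsScalarTower.toAlgHom A B _) fun _ _ => mul_comm _ _
  have hρt : IsUnit (ρ (algebraMap A A' t)) := by
    rw [ρ.commutes, ht]
    exact hu _ (M.mul_mem ht₁ ht₂)
  let χ : A'' →ₐ[A] q.asIdeal.ResidueField :=
    ψ.comp (IsLocalization.Away.liftAlgHom (algebraMap A A' t) (f := ρ) hρt)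
  refine ⟨⟨RingHom.ker χ.toRingHom, RingHom.ker_isPrime _⟩, PrimeSpectrum.ext (Ideal.ext fun y => ?_)⟩
  show χ (algebraMap A A'' y) = 0 ↔ algebraMap A B y ∈ q.asIdeal
  rw [χ.commutes, IsScalarTower.algebraMap_apply A B q.asIdeal.ResidueField, Ideal.algebraMap_residueField_eq_zero]

end Groth.Agent.FlatMonoRep
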